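import Groth.Agent.Pi1.H390.KumBasic
import Groth.Agent.S0505
import Mathlib.FieldTheory.IsSepClosed

/-!
# The Kummer algebra over a strictly henselian local ring is strictly henselian
-/

set_option autoImplicit false
universe u v

open IsLocalRing

namespace Groth.Agent.Pi1.H415.KumSH

open Groth.Agent.Pi1.H390

theorem isSepClosed_of_surjective {K L : Type*} [Field K] [Field L] [IsSepClosed K] (g : K →+* L)
    (hg : Function.Surjective g) : IsSepClosed L := by
  let e : K ≃+* L := RingEquiv.ofBijective g ⟨g.injective, hg⟩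
  constructor
  intro p hp
  have h1 : (p.map (e.symm : L →+* K)).Separable := hp.map
  have h2 := IsSepClosed.splits_of_separable _ h1
  have h3 := h2.map (e : K →+* L)
  rw [Polynomial.map_map] at h3
  simpa using h3

variable {R : Type u} [CommRing R] [IsLocalRing R] {ι : Type} [Finite ι] (a : ι → R) (n : ι → ℕ)
  (hm : ∀ i, a i ∈ maximalIdeal R) (hn : ∀ i, 1 ≤ n i)

include hm hn

theorem isSepClosed_residueField [IsSepClosed (ResidueField R)] [IsLocalRing (SGA1t.kummer R a n)] :
    IsSepClosed (ResidueField (SGA1t.kummer R a n)) := by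
  have hloc : IsLocalHom (algebraMap R (SGA1t.kummer R a n)) := KumBasic.isLocalHom a n hm hn
  refine isSepClosed_of_surjective (ResidueField.map (algebraMap R (SGA1t.kummer R a n))) ?_
  intro y
  obtain ⟨x, rfl⟩ := residue_surjective y
  obtain ⟨c, hc⟩ := KumBasic.exists_sub_mem a n x
  refine ⟨residue R c, ?_⟩
  rw [ResidueField.map_residue]
  have h1 : x - algebraMap R _ c ∈ maximalIdeal (SGA1t.kummer R a n) := by
    rw [KumBasic.eq_of_isMaximal a n hm hn (maximalIdeal (SGA1t.kummer R a n))]
    exact Ideal.mem_sup_right hc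
  have h2 := (residue_eq_zero_iff _).mpr h1
  rw [map_sub, sub_eq_zero] at h2
  exact h2.symm

omit hm hn in
theorem henselian {R : Type u} [CommRing R] [HenselianLocalRing R] {ι : Type} [Finite ι] (a : ι → R)
    (n : ι → ℕ) (hm : ∀ i, a i ∈ maximalIdeal R) (hn : ∀ i, 1 ≤ n i) :
    HenselianLocalRing (SGA1t.kummer R a n) := by
  have : IsLocalRing (SGA1t.kummer R a n) := KumBasic.isLocalRing a n hm hn
  have : Module.Finite R (SGA1t.kummer R a n) := KumBasic.finite a n hn
  exact Groth.Agent.S0505.result R (SGA1t.kummer R a n)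

end Groth.Agent.Pi1.H415.KumSH
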