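import Groth.Agent.Pi1.H415.SplitBC
import Groth.Agent.Sga1.StrictSection
import Mathlib.AlgebraicGeometry.Morphisms.QuasiFinite

/-!
# Finite etale covers of strictly henselian local rings: a section through every point
-/

set_option autoImplicit false

universe u

open CategoryTheory CategoryTheory.Limits AlgebraicGeometry IsLocalRing

namespace Groth.Agent.Pi1.H415.SHSplit

open SplitBC

variable {B : Type u} [CommRing B] [HenselianLocalRing B] [IsSepClosed (ResidueField B)]
  {W : Scheme.{u}} (p : W ⟶ Spec (CommRingCat.of B)) [IsFinite p] [Etale p]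

theorem exists_section_through (w : W) :
    ∃ s : Spec (CommRingCat.of B) ⟶ W, s ≫ p = 𝟙 _ ∧ w ∈ Set.range s := by
  -- a specialization in the closed fibre
  have h1 : IsClosed (p '' closure {w}) := p.isClosedMap _ isClosed_closure
  have h2 : closedPoint B ∈ p '' closure {w} := by
    have h3 : p w ∈ p '' closure {w} := ⟨w, subset_closure rfl, rfl⟩
    exact h1.stableUnderSpecialization (IsLocalRing.specializes_closedPoint (p w : PrimeSpectrum B)) h3
  obtain ⟨w0, hw0, hpw0⟩ := h2
  have hfin : (p ⁻¹' {closedPoint B}).Finite := p.finite_preimage_singleton _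
  have hfc : IsClosed (p ⁻¹' {closedPoint B}) :=
    (IsLocalRing.isClosed_singleton_closedPoint (R := B)).preimage p.continuous
  have hcl : ∀ y ∈ p ⁻¹' {closedPoint B}, IsClosed ({y} : Set W) := by
    intro y hy
    have h4 : closure {y} ⊆ ({y} : Set W) := by
      intro z hz
      have hz' : z ∈ p ⁻¹' {closedPoint B} := hfc.closure_subset_iff.mpr
        (Set.singleton_subset_iff.mpr hy) hz
      have h5 : y ⤳ z := specializes_iff_mem_closure.mpr hz
      exact ((p.isDiscrete_preimage_singleton _).eq_of_specializes h5 hy hz').symm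
    exact closure_subset_iff_isClosed.mp h4
  let F : Set W := p ⁻¹' {closedPoint B} \ {w0}
  have hF : IsClosed F := by
    have h4 : F = ⋃ y ∈ F, {y} := by simp
    rw [h4]
    exact (hfin.subset Set.sdiff_subset).isClosed_biUnion fun y hy => hcl y hy.1
  let X0 : W.Opens := ⟨Fᶜ, hF.isOpen_compl⟩
  have hw0X : w0 ∈ X0 := fun h => h.2 rfl
  obtain ⟨s, hs⟩ := Groth.Agent.Sga1.StrictSection.exists_section_of_strictlyHenselian
    (X0.ι ≫ p) (⟨w0, hw0X⟩ : X0) (by
      exact hpw0)
  refine ⟨s ≫ X0.ι, by rw [Category.assoc, hs], ?_⟩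
  have h5 : (s ≫ X0.ι) (closedPoint B) = w0 := by
    have h6 : p ((s ≫ X0.ι) (closedPoint B)) = closedPoint B := by
      have h7 := congrArg (fun a : Spec (CommRingCat.of B) ⟶ Spec (CommRingCat.of B) => a (closedPoint B)) hs
      simpa using h7
    have h8 : (s ≫ X0.ι) (closedPoint B) ∈ X0 := by
      rw [Scheme.Hom.comp_apply]
      exact (s (closedPoint B)).2
    by_contra hne
    exact h8 ⟨h6, hne⟩
  have h9 : Etale ((s ≫ X0.ι) ≫ p) := by
    rw [Category.assoc, hs]; infer_instance
  have h10 : Etale (s ≫ X0.ι) := Etale.of_comp (s ≫ X0.ι) p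
  have h11 : IsOpen (Set.range (s ≫ X0.ι)) := (s ≫ X0.ι).isOpenMap.isOpen_range
  have h12 : w ⤳ w0 := specializes_iff_mem_closure.mpr hw0
  exact h12.mem_open h11 ⟨closedPoint B, h5⟩

/-- A field valued point of `W` lies on a section. -/
theorem exists_section_comp (Ω : Type u) [Field Ω] (t : Spec (CommRingCat.of Ω) ⟶ W) :
    ∃ s : Spec (CommRingCat.of B) ⟶ W, s ≫ p = 𝟙 _ ∧ (t ≫ p) ≫ s = t := by
  obtain ⟨s, h1, h2⟩ := exists_section_through p (t (closedPoint Ω))
  have h9 : Etale (s ≫ p) := by rw [h1]; infer_instance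
  have h10 : Etale s := Etale.of_comp s p
  have h11 : Mono (s ≫ p) := by rw [h1]; infer_instance
  have h12 : Mono s := mono_of_mono s p
  have h13 : IsOpenImmersion s := IsOpenImmersion.of_flat_of_mono s
  refine ⟨s, h1, ?_⟩
  have h14 : Set.range t ⊆ Set.range s := by
    rintro _ ⟨y, rfl⟩
    have : y = closedPoint Ω := Subsingleton.elim _ _
    rw [this]
    exact h2
  have h15 : IsOpenImmersion.lift s t h14 ≫ s = t := IsOpenImmersion.lift_fac _ _ _
  rw [← h15, Category.assoc, Category.assoc, reassoc_of% h1]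

/-- Scheme level form: `V ×_U K ≅ W ×_{Spec B} K` over `K`, `W` finite etale over the strictly henselian
`Spec B`, implies that `V` is split by `K`. -/
theorem ptSplit_of_pullback {K U V : Scheme.{u}} (v : V ⟶ U) (j : K ⟶ Spec (CommRingCat.of B)) (k : K ⟶ U)
    (eh : pullback p j ⟶ pullback v k) (ei : pullback v k ⟶ pullback p j)
    (we : eh ≫ pullback.snd v k = pullback.snd p j) (wi : ei ≫ pullback.snd p j = pullback.snd v k)
    (hei : ei ≫ eh = 𝟙 _) : PtSplit v k := by
  intro Ω _ t κ h
  let z : Spec (CommRingCat.of Ω) ⟶ pullback v k := pullback.lift t κ h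
  have hz1 : z ≫ pullback.fst v k = t := pullback.lift_fst _ _ _
  have hz2 : z ≫ pullback.snd v k = κ := pullback.lift_snd _ _ _
  let z' : Spec (CommRingCat.of Ω) ⟶ pullback p j := z ≫ ei
  have hz' : z' ≫ pullback.snd p j = κ := by
    rw [Category.assoc, wi, hz2]
  obtain ⟨σ, hσ, hσ'⟩ := exists_section_comp p Ω (z' ≫ pullback.fst p j)
  have h3 : (z' ≫ pullback.fst p j) ≫ p = κ ≫ j := by
    rw [Category.assoc, pullback.condition, reassoc_of% hz']
  let l : K ⟶ pullback p j := pullback.lift (j ≫ σ) (𝟙 _) (by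
    rw [Category.assoc, hσ, Category.comp_id, Category.id_comp])
  have hl : κ ≫ l = z' := by
    apply pullback.hom_ext
    · rw [Category.assoc, pullback.lift_fst, ← Category.assoc, ← h3, hσ']
    · rw [Category.assoc, pullback.lift_snd, Category.comp_id, hz']
  refine ⟨l ≫ eh ≫ pullback.fst v k, ?_, ?_⟩
  · rw [Category.assoc, Category.assoc, pullback.condition, reassoc_of% we, pullback.lift_snd_assoc,
      Category.id_comp]
  · rw [reassoc_of% hl]
    change (z ≫ ei) ≫ eh ≫ pullback.fst v k = t
    rw [Category.assoc, reassoc_of% hei, hz1]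

/-- A cover `V` of `U` whose pullback along `k : K ⟶ U` extends to a finite etale cover of a strictly
henselian local scheme `Spec B` (along `j : K ⟶ Spec B`) is split by `k`. -/
theorem ptSplit_of_extends {K U : Scheme.{u}} (j : K ⟶ Spec (CommRingCat.of B)) (k : K ⟶ U)
    (V : FEt.Cat U) (W : FEt.Cat (Spec (CommRingCat.of B)))
    (e : (FEt.restrict j).obj W ≅ (FEt.restrict k).obj V) : PtSplit V.hom k := by
  have hF : IsFinite W.hom := W.prop.1
  have hE : Etale W.hom := W.prop.2
  have hei : e.inv.left ≫ e.hom.left = 𝟙 _ := by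
    rw [← MorphismProperty.Comma.comp_left, e.inv_hom_id]; rfl
  exact ptSplit_of_pullback W.hom V.hom j k e.hom.left e.inv.left
    (Groth.Agent.Pi1A.ClopenCrit.w e.hom) (Groth.Agent.Pi1A.ClopenCrit.w e.inv) hei

end Groth.Agent.Pi1.H415.SHSplit
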