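import Groth.Agent.Pi1.H415.SplitBC
import Groth.Agent.Pi1.H415.SHSplit
import Groth.Agent.Pi1.H415.KumSH
import Groth.Agent.Pi1.H415.KumBC
import Groth.Agent.Pi1.H415.Local
import Groth.Agent.Pi1.H415.Stmts
import Groth.Agent.Pi1.H403.RelSNCBase

/-!
# Relatively tame covers and base change, from the relative Abhyankar lemma
-/

set_option autoImplicit false
universe u

open CategoryTheory CategoryTheory.Limits AlgebraicGeometry

namespace Groth.Agent.Pi1.H415.Glue

open SplitBC Stmts Local KumBC
open Groth.Agent.Pi1.H403.RelSNCBase (vanEquiv isRelSNC_baseChange)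

section One

variable {X S : Scheme.{u}} (f : X ⟶ S) {r : ℕ} (φ : Fin r → Γ(X, ⊤))
    (hD : SGA1t.IsRelSNC f φ) (x : X)
    (R : Type u) [CommRing R] [IsLocalRing R] [Algebra (X.presheaf.stalk x) R]
    [IsLocalHom (algebraMap (X.presheaf.stalk x) R)] [Hensel.IsStrictHenselization (X.presheaf.stalk x) R]

/-- The local equations of the divisor. -/
noncomputable abbrev eqs : SGA1t.vanishingAt φ x → R := fun i => fn x R (φ i.1)

/-- The complement of the divisor in `Spec R`. -/
noncomputable abbrev cmpl : (Spec (CommRingCat.of R)).Opens :=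
  SGA1t.compl (fun i => (Hens2.specOf X x R).appTop (φ i))

omit [Hensel.IsStrictHenselization (X.presheaf.stalk x) R] in
theorem eqs_mem (i : SGA1t.vanishingAt φ x) : eqs φ x R i ∈ IsLocalRing.maximalIdeal R :=
  (fn_mem_maximalIdeal_iff x R (φ i.1)).mpr i.2

omit [IsLocalRing R] [IsLocalHom (algebraMap (X.presheaf.stalk x) R)]
  [Hensel.IsStrictHenselization (X.presheaf.stalk x) R] in
theorem etale_restrict (n : SGA1t.vanishingAt φ x → ℕ) (hn : ∀ i, 1 ≤ n i)
    (hnu : ∀ i, IsUnit ((n i : ℕ) : X.residueField x)) : Etale (str R (eqs φ x R) n ∣_ cmpl φ x R) :=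
  KumBC.etale_restrict (eqs φ x R) n hn (fun i => isUnit_natCast x R (n i) (hnu i)) _
    (fun i => compl_specOf_le x R φ i.1)

include hD in
theorem connected (hK : KumGal.{u}) (hx : Nonempty (SGA1t.vanishingAt φ x))
    (n : SGA1t.vanishingAt φ x → ℕ) (hn : ∀ i, 1 ≤ n i)
    (hnu : ∀ i, IsUnit ((n i : ℕ) : X.residueField x)) :
    ConnectedSpace ↥(↑(str R (eqs φ x R) n ⁻¹ᵁ cmpl φ x R) : Scheme.{u}) := by
  have h1 : Etale (str R (eqs φ x R) n ∣_ cmpl φ x R) := etale_restrict φ x R n hn hnu
  have h2 : IsFinite (str R (eqs φ x R) n ∣_ cmpl φ x R) := isFinite_restrict (eqs φ x R) n hn _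
  exact (@hK X S f r φ hD x hx R _ _ _ _ _ n hn hnu h2 h1).1.1

include hD in
theorem exists_split (hA : Abh.{u}) (hx : Nonempty (SGA1t.vanishingAt φ x))
    (V : FEt.Cat (cmpl φ x R : Scheme.{u}))
    (htame : SGA1t.IsRelTame (Hens2.specOf X x R ≫ f) (fun i => (Hens2.specOf X x R).appTop (φ i)) V) :
    ∃ n : SGA1t.vanishingAt φ x → ℕ, (∀ i, 1 ≤ n i) ∧ (∀ i, IsUnit ((n i : ℕ) : X.residueField x)) ∧
      PtSplit V.hom (str R (eqs φ x R) n ∣_ cmpl φ x R) := by
  obtain ⟨n, hn, hnu, W, ⟨e⟩⟩ := hA f φ hD x hx R V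
    (fun Ω _ _ σ _ => htame Ω σ (fun _ => trivial))
  have : HenselianLocalRing R := Hensel.IsStrictHenselization.henselian (X.presheaf.stalk x)
  have : IsSepClosed (IsLocalRing.ResidueField R) :=
    (Hensel.IsStrictHenselization.isSepClosure (R := X.presheaf.stalk x) (S := R)).1
  have : HenselianLocalRing (SGA1t.kummer R (eqs φ x R) n) :=
    KumSH.henselian (eqs φ x R) n (eqs_mem φ x R) hn
  have : IsSepClosed (IsLocalRing.ResidueField (SGA1t.kummer R (eqs φ x R) n)) :=
    KumSH.isSepClosed_residueField (eqs φ x R) n (eqs_mem φ x R) hn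
  exact ⟨n, hn, hnu, SHSplit.ptSplit_of_extends (B := SGA1t.kummer R (eqs φ x R) n)
    (str R (eqs φ x R) n ⁻¹ᵁ cmpl φ x R).ι (str R (eqs φ x R) n ∣_ cmpl φ x R) V W e⟩

omit [Hensel.IsStrictHenselization (X.presheaf.stalk x) R] in
set_option linter.overlappingInstances false in
/-- If nothing vanishes at `x`, every cover of the complement is split by the identity. -/
theorem ptSplit_of_isEmpty [HenselianLocalRing R] [IsSepClosed (IsLocalRing.ResidueField R)]
    (hx : IsEmpty (SGA1t.vanishingAt φ x)) (V : FEt.Cat (cmpl φ x R : Scheme.{u})) :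
    PtSplit V.hom (𝟙 (cmpl φ x R : Scheme.{u})) := by
  have htop : cmpl φ x R = ⊤ := compl_eq_top x R φ hx
  have hiso : IsIso (cmpl φ x R).ι := by rw [htop]; exact (Scheme.topIso _).isIso_hom
  intro Ω _ t κ h
  have hF : IsFinite V.hom := V.prop.1
  have hE : Etale V.hom := V.prop.2
  obtain ⟨s, h1, h2⟩ := SHSplit.exists_section_comp (V.hom ≫ (cmpl φ x R).ι) Ω t
  refine ⟨(cmpl φ x R).ι ≫ s, ?_, ?_⟩
  · rw [← cancel_mono (cmpl φ x R).ι, Category.assoc, Category.assoc, h1,
      Category.comp_id, Category.id_comp]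
  · rw [Category.comp_id] at h
    rw [← h, Category.assoc]
    simpa using h2

end One

theorem connectedSpace_of_eq_top (A : Type u) [CommRing A] [IsLocalRing A] (U : (Spec (CommRingCat.of A)).Opens)
    (h : U = ⊤) : ConnectedSpace ↥(U : Scheme.{u}) := by
  subst h
  have hp : PreconnectedSpace ↥(Spec (CommRingCat.of A)) := by
    constructor
    refine isPreconnected_of_forall (IsLocalRing.closedPoint A : PrimeSpectrum A) fun y _ => ?_
    refine ⟨closure {y}, Set.subset_univ _, ?_, subset_closure rfl, isPreconnected_singleton.closure⟩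
    exact (IsLocalRing.specializes_closedPoint (y : PrimeSpectrum A)).mem_closure
  have hc : ConnectedSpace ↥(Spec (CommRingCat.of A)) := ⟨⟨IsLocalRing.closedPoint A⟩⟩
  exact (Scheme.topIso (Spec (CommRingCat.of A))).inv.homeomorph.surjective.connectedSpace
    (Scheme.topIso (Spec (CommRingCat.of A))).inv.homeomorph.continuous

section Two

variable {X S S' : Scheme.{u}} (f : X ⟶ S) (h : S' ⟶ S) {r : ℕ} (φ : Fin r → Γ(X, ⊤))
    (hD : SGA1t.IsRelSNC f φ) (x' : ↥(pullback f h))
    (R : Type u) [CommRing R] [IsLocalRing R] [Algebra (X.presheaf.stalk ((pullback.fst f h).base x')) R]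
    [IsLocalHom (algebraMap (X.presheaf.stalk ((pullback.fst f h).base x')) R)]
    [Hensel.IsStrictHenselization (X.presheaf.stalk ((pullback.fst f h).base x')) R]
    (R' : Type u) [CommRing R'] [IsLocalRing R'] [Algebra ((pullback f h).presheaf.stalk x') R']
    [IsLocalHom (algebraMap ((pullback f h).presheaf.stalk x') R')]
    [Hensel.IsStrictHenselization ((pullback f h).presheaf.stalk x') R']
    [Algebra R R'] (hRR' : (algebraMap R R').comp (algebraMap (X.presheaf.stalk ((pullback.fst f h).base x')) R) =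
      (algebraMap ((pullback f h).presheaf.stalk x') R').comp ((pullback.fst f h).stalkMap x').hom)

/-- The pulled back functions. -/
noncomputable abbrev φ' : Fin r → Γ(pullback f h, ⊤) := fun i => (pullback.fst f h).appTop (φ i)

include hRR' in
omit [IsLocalRing R] [IsLocalHom (algebraMap (X.presheaf.stalk ((pullback.fst f h).base x')) R)]
    [Hensel.IsStrictHenselization (X.presheaf.stalk ((pullback.fst f h).base x')) R] [IsLocalRing R']
    [IsLocalHom (algebraMap ((pullback f h).presheaf.stalk x') R')]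
    [Hensel.IsStrictHenselization ((pullback f h).presheaf.stalk x') R'] in
theorem fn_pullback (s : Γ(X, ⊤)) :
    fn x' R' ((pullback.fst f h).appTop s) = algebraMap R R' (fn ((pullback.fst f h).base x') R s) := by
  have h1 := congrArg (fun k => k ((X.presheaf.germ ⊤ ((pullback.fst f h).base x') trivial).hom s)) hRR'
  simp only [RingHom.comp_apply] at h1
  rw [fn, fn, h1]
  congr 1
  have h2 := congrArg (fun k => k.hom s) (Scheme.Hom.germ_stalkMap (pullback.fst f h) ⊤ x' trivial)
  exact h2.symm

include hRR' hD in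
/-- **Key statement.** Two relatively tame covers `P`, `Q` of the strictly local complement are split by one
finite etale cover `k : K → U`, connected and connected after base change to `U'`. -/
theorem exists_cover (hA : Abh.{u}) (hK : KumGal.{u})
    (hle : cmpl (φ' f h φ) x' R' ≤ Spec.map (CommRingCat.ofHom (algebraMap R R')) ⁻¹ᵁ
      cmpl φ ((pullback.fst f h).base x') R)
    (P Q : FEt.Cat (cmpl φ ((pullback.fst f h).base x') R : Scheme.{u}))
    (hP : SGA1t.IsRelTame (Hens2.specOf X ((pullback.fst f h).base x') R ≫ f)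
      (fun i => (Hens2.specOf X ((pullback.fst f h).base x') R).appTop (φ i)) P)
    (hQ : SGA1t.IsRelTame (Hens2.specOf X ((pullback.fst f h).base x') R ≫ f)
      (fun i => (Hens2.specOf X ((pullback.fst f h).base x') R).appTop (φ i)) Q) :
    ∃ (K : Scheme.{u}) (k : K ⟶ cmpl φ ((pullback.fst f h).base x') R), IsFinite k ∧ Etale k ∧ Surjective k ∧
      ConnectedSpace K ∧ ConnectedSpace ↥(pullback k ((Spec.map (CommRingCat.ofHom (algebraMap R R'))).resLE
        (cmpl φ ((pullback.fst f h).base x') R) (cmpl (φ' f h φ) x' R') hle)) ∧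
      PtSplit P.hom k ∧ PtSplit Q.hom k := by
  have hR : HenselianLocalRing R := Hensel.IsStrictHenselization.henselian (X.presheaf.stalk ((pullback.fst f h).base x'))
  have hRs : IsSepClosed (IsLocalRing.ResidueField R) :=
    (Hensel.IsStrictHenselization.isSepClosure (R := X.presheaf.stalk ((pullback.fst f h).base x')) (S := R)).1
  by_cases hx : Nonempty (SGA1t.vanishingAt φ ((pullback.fst f h).base x'))
  · obtain ⟨n₁, hn₁, hnu₁, hs₁⟩ := exists_split f φ hD ((pullback.fst f h).base x') R hA hx P hP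
    obtain ⟨n₂, hn₂, hnu₂, hs₂⟩ := exists_split f φ hD ((pullback.fst f h).base x') R hA hx Q hQ
    let n : SGA1t.vanishingAt φ ((pullback.fst f h).base x') → ℕ := fun i => n₁ i * n₂ i
    have hn : ∀ i, 1 ≤ n i := fun i => Nat.mul_pos (hn₁ i) (hn₂ i)
    have hnu : ∀ i, IsUnit ((n i : ℕ) : X.residueField ((pullback.fst f h).base x')) := fun i => by
      rw [Nat.cast_mul]; exact (hnu₁ i).mul (hnu₂ i)
    obtain ⟨l₁, hl₁⟩ := exists_factor_restrict (eqs φ ((pullback.fst f h).base x') R) n₁ n (fun i => Dvd.intro _ rfl) (cmpl φ ((pullback.fst f h).base x') R)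
    obtain ⟨l₂, hl₂⟩ := exists_factor_restrict (eqs φ ((pullback.fst f h).base x') R) n₂ n (fun i => Dvd.intro_left _ rfl) (cmpl φ ((pullback.fst f h).base x') R)
    refine ⟨_, str R (eqs φ ((pullback.fst f h).base x') R) n ∣_ cmpl φ ((pullback.fst f h).base x') R, isFinite_restrict (eqs φ ((pullback.fst f h).base x') R) n hn _,
      etale_restrict φ ((pullback.fst f h).base x') R n hn hnu, surjective_restrict (eqs φ ((pullback.fst f h).base x') R) n hn _,
      connected f φ hD ((pullback.fst f h).base x') R hK hx n hn hnu, ?_, ?_, ?_⟩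
    · let e : SGA1t.vanishingAt (φ' f h φ) x' ≃ SGA1t.vanishingAt φ ((pullback.fst f h).base x') := vanEquiv (pullback.fst f h) φ x'
      have hx' : Nonempty (SGA1t.vanishingAt (φ' f h φ) x') := hx.map e.symm
      let n' : SGA1t.vanishingAt (φ' f h φ) x' → ℕ := fun i => n (e i)
      have hnu' : ∀ i, IsUnit ((n' i : ℕ) : (pullback f h).residueField x') := fun i => by
        have := (hnu (e i)).map ((pullback.fst f h).residueFieldMap x').hom
        simpa using this
      have hc : ConnectedSpace ↥(↑(str R' (eqs (φ' f h φ) x' R') n' ⁻¹ᵁ cmpl (φ' f h φ) x' R') : Scheme.{u}) :=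
        connected (pullback.snd f h) (φ' f h φ) (isRelSNC_baseChange f φ hD h) x' R' hK hx' n'
          (fun i => hn _) hnu'
      obtain ⟨l, hl⟩ := isPullback_restrict (KumBC.isPullback (algebraMap R R') e (eqs φ ((pullback.fst f h).base x') R) n
        (eqs (φ' f h φ) x' R') n' (fun j => fn_pullback f h x' R R' hRR' (φ j.1)) (fun _ => rfl))
        (cmpl φ ((pullback.fst f h).base x') R) (cmpl (φ' f h φ) x' R') hle
      exact hl.isoPullback.hom.homeomorph.surjective.connectedSpace hl.isoPullback.hom.homeomorph.continuous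
    · rw [← hl₁]; exact hs₁.comp l₁
    · rw [← hl₂]; exact hs₂.comp l₂
  · rw [not_nonempty_iff] at hx
    refine ⟨_, 𝟙 _, inferInstance, inferInstance, inferInstance, ?_, ?_,
      ptSplit_of_isEmpty φ ((pullback.fst f h).base x') R hx P, ptSplit_of_isEmpty φ ((pullback.fst f h).base x') R hx Q⟩
    · have htop : cmpl φ ((pullback.fst f h).base x') R = ⊤ :=
        Local.compl_eq_top ((pullback.fst f h).base x') R φ hx
      exact connectedSpace_of_eq_top R _ htop
    · have hx' : IsEmpty (SGA1t.vanishingAt (φ' f h φ) x') :=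
        (vanEquiv (pullback.fst f h) φ x').isEmpty
      have htop : cmpl (φ' f h φ) x' R' = ⊤ := Local.compl_eq_top x' R' (φ' f h φ) hx'
      have hc := connectedSpace_of_eq_top R' _ htop
      have hi : IsIso (pullback.snd (𝟙 (cmpl φ ((pullback.fst f h).base x') R : Scheme.{u}))
        ((Spec.map (CommRingCat.ofHom (algebraMap R R'))).resLE
        (cmpl φ ((pullback.fst f h).base x') R) (cmpl (φ' f h φ) x' R') hle)) := inferInstance
      let e := (asIso (pullback.snd (𝟙 (cmpl φ ((pullback.fst f h).base x') R : Scheme.{u}))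
        ((Spec.map (CommRingCat.ofHom (algebraMap R R'))).resLE
        (cmpl φ ((pullback.fst f h).base x') R) (cmpl (φ' f h φ) x' R') hle))).inv.homeomorph
      exact e.surjective.connectedSpace e.continuous

end Two

end Groth.Agent.Pi1.H415.Glue
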