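import Groth.Agent.Pi1.H415.FinalC
import Groth.Agent.Pi1.H391.Stmts2
import Mathlib.AlgebraicGeometry.Morphisms.Affine
import Mathlib.RingTheory.Localization.BaseChange

/-!
# Ring form of covers of a principal open subscheme of an affine scheme

For `S = SGA1t.compl …` a principal open of `Spec R`, `Rt = R[1/f]`, `V → U` finite etale:
* `exists_alg`: `V = Spec C`, `C` finite etale over `Rt`;
* `ptSplit_of_alg`: `AlgPtSplit Rt C A'` implies `PtSplit v (str R a n ∣_ U)`, `A' = (kummer R a n)[1/f]`;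
* `exists_point`: `Spec L → V` from `C → L`, with the same range of functions.
-/

set_option autoImplicit false
universe u

open CategoryTheory CategoryTheory.Limits AlgebraicGeometry TensorProduct

namespace Groth.Agent.Pi1.H415.Trans

open SplitBC KumBC Groth.Agent.Pi1.H391.Stmts2

section Open

variable {R : Type u} [CommRing R] (U : (Spec (CommRingCat.of R)).Opens) (f : R)
  (hU : U = PrimeSpectrum.basicOpen f) (Rt : Type u) [CommRing Rt] [Algebra R Rt] [IsLocalization.Away f Rt]

include hU in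
/-- A principal open subscheme is the spectrum of the localization. -/
theorem exists_iso : ∃ u : Spec (CommRingCat.of Rt) ≅ (U : Scheme.{u}),
    u.hom ≫ U.ι = Spec.map (CommRingCat.ofHom (algebraMap R Rt)) := by
  let j : Spec (CommRingCat.of Rt) ⟶ Spec (CommRingCat.of R) := Spec.map (CommRingCat.ofHom (algebraMap R Rt))
  have hj : IsOpenImmersion j := IsOpenImmersion.of_isLocalization f
  have hrange : Set.range U.ι = Set.range j := by
    rw [Scheme.Opens.range_ι]
    have h1 : Set.range j = (PrimeSpectrum.basicOpen f : Set (PrimeSpectrum R)) :=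
      PrimeSpectrum.localization_away_comap_range Rt f
    rw [h1, hU]
    rfl
  exact ⟨IsOpenImmersion.isoOfRangeEq j U.ι hrange.symm, IsOpenImmersion.isoOfRangeEq_hom_fac _ _ _⟩

include hU in
/-- The ring of a finite etale cover. -/
theorem exists_alg {V : Scheme.{u}} (v : V ⟶ U) [IsFinite v] [Etale v] :
    ∃ (C : Type u) (_ : CommRing C) (_ : Algebra Rt C) (_ : Module.Finite Rt C) (_ : Algebra.Etale Rt C)
      (e : Spec (CommRingCat.of C) ≅ V),
      e.hom ≫ v ≫ U.ι = Spec.map (CommRingCat.ofHom (algebraMap Rt C)) ≫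
        Spec.map (CommRingCat.ofHom (algebraMap R Rt)) := by
  obtain ⟨u, hu⟩ := exists_iso U f hU Rt
  have hUa : IsAffine (U : Scheme.{u}) := IsAffine.of_isIso u.inv
  have hVa : IsAffine V := isAffine_of_isAffineHom v
  let C : Type u := Γ(V, ⊤)
  let γ' : Spec Γ(V, ⊤) ⟶ Spec (CommRingCat.of Rt) := V.isoSpec.inv ≫ v ≫ u.inv
  let γ : CommRingCat.of Rt ⟶ Γ(V, ⊤) := Spec.preimage γ'
  have hγ : Spec.map γ = γ' := Spec.map_preimage γ'
  let _ : Algebra Rt C := γ.hom.toAlgebra
  have h1 : IsFinite (Spec.map γ) := by rw [hγ]; infer_instance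
  have h2 : Etale (Spec.map γ) := by rw [hγ]; infer_instance
  have h3 : Module.Finite Rt C := by
    rw [IsFinite.SpecMap_iff] at h1
    exact h1
  have h4 : Algebra.Etale Rt C := by
    rw [HasRingHomProperty.Spec_iff (P := @Etale)] at h2
    exact h2
  refine ⟨C, inferInstance, inferInstance, h3, h4, V.isoSpec.symm, ?_⟩
  have h5 : Spec.map (CommRingCat.ofHom (algebraMap Rt C)) = γ' := hγ
  rw [h5, ← hu]
  simp [γ']

end Open

section Points

variable {R : Type u} [CommRing R] (U : (Spec (CommRingCat.of R)).Opens) {V : Scheme.{u}} (v : V ⟶ U)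
  (Rt C : Type u) [CommRing Rt] [Algebra R Rt] [CommRing C] [Algebra Rt C]
  (e : Spec (CommRingCat.of C) ≅ V)
  (he : e.hom ≫ v ≫ U.ι = Spec.map (CommRingCat.ofHom (algebraMap Rt C)) ≫
        Spec.map (CommRingCat.ofHom (algebraMap R Rt)))

include he in
/-- `C → L` as a point of `V`: the hypotheses of `TameRing`. -/
theorem exists_point {L : Type u} [CommRing L] (g : C →+* L) :
    ∃ t : Spec (CommRingCat.of L) ⟶ V,
      t ≫ v ≫ U.ι = Spec.map (CommRingCat.ofHom ((g.comp (algebraMap Rt C)).comp (algebraMap R Rt))) ∧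
      Set.range (fun c : Γ(V, ⊤) => (Scheme.ΓSpecIso (CommRingCat.of L)).hom.hom (t.appTop.hom c)) =
        Set.range g := by
  refine ⟨Spec.map (CommRingCat.ofHom g) ≫ e.hom, ?_, ?_⟩
  · rw [Category.assoc, he, ← Spec.map_comp, ← Spec.map_comp]
    rfl
  · have h1 : (Spec.map (CommRingCat.ofHom g) ≫ e.hom).appTop ≫ (Scheme.ΓSpecIso (CommRingCat.of L)).hom =
        e.hom.appTop ≫ (Scheme.ΓSpecIso (CommRingCat.of C)).hom ≫ CommRingCat.ofHom g := by
      rw [Scheme.Hom.comp_appTop, Category.assoc, Scheme.ΓSpecIso_naturality]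
    have h2 : ∀ c : Γ(V, ⊤), (Scheme.ΓSpecIso (CommRingCat.of L)).hom.hom
        ((Spec.map (CommRingCat.ofHom g) ≫ e.hom).appTop.hom c) =
        g ((Scheme.ΓSpecIso (CommRingCat.of C)).hom.hom (e.hom.appTop.hom c)) := fun c => congr($h1 c)
    have h3 : Function.Surjective (fun c : Γ(V, ⊤) =>
        (Scheme.ΓSpecIso (CommRingCat.of C)).hom.hom (e.hom.appTop.hom c)) := by
      have h4 : IsIso e.hom.appTop := (inferInstance : IsIso (e.hom.app ⊤))
      have h5 : Function.Surjective e.hom.appTop.hom := ((ConcreteCategory.isIso_iff_bijective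
        (e.hom.appTop)).mp h4).2
      have h6 : Function.Surjective (Scheme.ΓSpecIso (CommRingCat.of C)).hom.hom :=
        ((ConcreteCategory.isIso_iff_bijective (Scheme.ΓSpecIso (CommRingCat.of C)).hom).mp inferInstance).2
      exact h6.comp h5
    ext y
    constructor
    · rintro ⟨c, rfl⟩
      exact ⟨_, (h2 c).symm⟩
    · rintro ⟨c, rfl⟩
      obtain ⟨d, hd⟩ := h3 c
      refine ⟨d, (h2 d).trans ?_⟩
      exact congrArg g hd

end Points

section Split

variable {R : Type u} [CommRing R] (U : (Spec (CommRingCat.of R)).Opens) (f : R)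
  (hU : U = PrimeSpectrum.basicOpen f) {ι : Type} (a : ι → R) (n : ι → ℕ)
  (Rt : Type u) [CommRing Rt] [Algebra R Rt] [IsLocalization.Away f Rt]
  (A' : Type u) [CommRing A'] [Algebra (SGA1t.kummer R a n) A'] [Algebra Rt A']
  [IsLocalization.Away (algebraMap R (SGA1t.kummer R a n) f) A']
  (hA : (algebraMap Rt A').comp (algebraMap R Rt) =
    (algebraMap (SGA1t.kummer R a n) A').comp (algebraMap R (SGA1t.kummer R a n)))
  {V : Scheme.{u}} (v : V ⟶ U) (C : Type u) [CommRing C] [Algebra Rt C]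
  (e : Spec (CommRingCat.of C) ≅ V)
  (he : e.hom ≫ v ≫ U.ι = Spec.map (CommRingCat.ofHom (algebraMap Rt C)) ≫
        Spec.map (CommRingCat.ofHom (algebraMap R Rt)))

include hU hA he in
theorem ptSplit_of_alg (h : AlgPtSplit Rt C A') : PtSplit v (str R a n ∣_ U) := by
  have hU' : str R a n ⁻¹ᵁ U = PrimeSpectrum.basicOpen (algebraMap R (SGA1t.kummer R a n) f) := by
    rw [hU]
    rfl
  obtain ⟨w, hw⟩ := exists_iso (str R a n ⁻¹ᵁ U) (algebraMap R (SGA1t.kummer R a n) f) hU' A'
  have hmono : Mono (Spec.map (CommRingCat.ofHom (algebraMap R Rt))) := by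
    have : IsOpenImmersion (Spec.map (CommRingCat.ofHom (algebraMap R Rt))) :=
      IsOpenImmersion.of_isLocalization f
    infer_instance
  have hA1 : Spec.map (CommRingCat.ofHom (algebraMap Rt A')) ≫ Spec.map (CommRingCat.ofHom (algebraMap R Rt)) =
      Spec.map (CommRingCat.ofHom (algebraMap (SGA1t.kummer R a n) A')) ≫ str R a n := by
    rw [← Spec.map_comp, ← Spec.map_comp, ← CommRingCat.ofHom_comp, ← CommRingCat.ofHom_comp, hA]
  intro Ω _ t κ htκ
  obtain ⟨c, hc⟩ := Spec.map_surjective (t ≫ e.inv)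
  obtain ⟨b, hb⟩ := Spec.map_surjective (κ ≫ w.inv)
  have hcb : CommRingCat.ofHom (algebraMap Rt C) ≫ c = CommRingCat.ofHom (algebraMap Rt A') ≫ b := by
    apply Spec.map_injective
    rw [← cancel_mono (Spec.map (CommRingCat.ofHom (algebraMap R Rt))), Spec.map_comp, Spec.map_comp, hc, hb]
    simp only [Category.assoc]
    rw [← he, hA1, reassoc_of% (eq_comm.mp hw)]
    simp only [Iso.inv_hom_id_assoc]
    rw [reassoc_of% htκ, morphismRestrict_ι]
  obtain ⟨s₀, hs₀⟩ := h Ω c.hom b.hom (by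
    have := congrArg CommRingCat.Hom.hom hcb
    exact this)
  have hs₀' : CommRingCat.ofHom s₀.toRingHom ≫ b = c := CommRingCat.hom_ext hs₀
  have hs1 : Spec.map (CommRingCat.ofHom s₀.toRingHom) ≫ Spec.map (CommRingCat.ofHom (algebraMap Rt C)) =
      Spec.map (CommRingCat.ofHom (algebraMap Rt A')) := by
    rw [← Spec.map_comp, ← CommRingCat.ofHom_comp]
    congr 2
    exact s₀.comp_algebraMap
  refine ⟨w.inv ≫ Spec.map (CommRingCat.ofHom s₀.toRingHom) ≫ e.hom, ?_, ?_⟩
  · rw [← cancel_mono U.ι]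
    simp only [Category.assoc]
    rw [he, reassoc_of% hs1, hA1, ← hw, Category.assoc, Iso.inv_hom_id_assoc, morphismRestrict_ι]
  · have h1 : κ ≫ w.inv ≫ Spec.map (CommRingCat.ofHom s₀.toRingHom) ≫ e.hom =
        (κ ≫ w.inv) ≫ Spec.map (CommRingCat.ofHom s₀.toRingHom) ≫ e.hom := (Category.assoc _ _ _).symm
    rw [h1, ← hb, ← Category.assoc, ← Spec.map_comp, hs₀', hc, Category.assoc, Iso.inv_hom_id, Category.comp_id]

end Split

/-- Pointwise splitting after base change. -/
theorem algPtSplit_of_baseChange (A C A' : Type u) [CommRing A] [CommRing C] [CommRing A'] [Algebra A C]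
    [Algebra A A'] (h : AlgPtSplit A' (A' ⊗[A] C) A') : AlgPtSplit A C A' := by
  intro Ω _ c a hca
  let _ : Algebra A Ω := (c.comp (algebraMap A C)).toAlgebra
  let cA : C →ₐ[A] Ω := { c with commutes' := fun _ => rfl }
  let aA : A' →ₐ[A] Ω := { a with commutes' := fun r => congr($hca r).symm }
  let k : A' ⊗[A] C →ₐ[A] Ω := Algebra.TensorProduct.lift aA cA (fun _ _ => Commute.all _ _)
  have hk : ∀ (x : A') (y : C), k (x ⊗ₜ y) = a x * c y := fun _ _ => rfl
  obtain ⟨s, hs⟩ := h Ω k.toRingHom a (by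
    ext x
    change k (x ⊗ₜ 1) = a x
    rw [hk, map_one, mul_one])
  refine ⟨(s.restrictScalars A).comp Algebra.TensorProduct.includeRight, ?_⟩
  ext y
  have h1 : a (s (1 ⊗ₜ y)) = k (1 ⊗ₜ y) := congr($hs (1 ⊗ₜ y))
  rw [hk, map_one, one_mul] at h1
  exact h1

section Cmpl

open Local Glue FinalC

variable {X S : Scheme.{u}} {r : ℕ} (φ : Fin r → Γ(X, ⊤)) (x : X)
    (R : Type u) [CommRing R] [IsLocalRing R] [Algebra (X.presheaf.stalk x) R]
    [IsLocalHom (algebraMap (X.presheaf.stalk x) R)]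

theorem cmpl_eq [Fintype (SGA1t.vanishingAt φ x)] :
    cmpl φ x R = PrimeSpectrum.basicOpen (∏ i, eqs φ x R i) := by
  ext y
  refine (mem_cmpl_iff φ x R y).trans ?_
  change _ ↔ (∏ i, eqs φ x R i) ∉ (y : PrimeSpectrum R).asIdeal
  rw [(y : PrimeSpectrum R).2.prod_mem_iff]
  simp

end Cmpl

end Groth.Agent.Pi1.H415.Trans
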