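import Groth.Agent.Pi1.H415.Expo
import Groth.Agent.Pi1.H415.SplitExt
import Groth.Agent.Pi1.H415.CharPt
import Groth.Agent.Pi1.H415.Glue
import Groth.Agent.Pi1.H394.SNCConn

/-!
# Exponents: from a Kummer cover splitting `V₁` to the conclusion of the relative Abhyankar lemma (S3689)
-/

set_option autoImplicit false
universe u

open CategoryTheory CategoryTheory.Limits AlgebraicGeometry

namespace Groth.Agent.Pi1.H415.FinalC

open SplitBC Stmts Local KumBC Glue

variable {X S : Scheme.{u}} (f : X ⟶ S) {r : ℕ} (φ : Fin r → Γ(X, ⊤))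
    (hD : SGA1t.IsRelSNC f φ) (x : X) (hx : Nonempty (SGA1t.vanishingAt φ x))
    (R : Type u) [CommRing R] [IsLocalRing R] [Algebra (X.presheaf.stalk x) R]
    [IsLocalHom (algebraMap (X.presheaf.stalk x) R)] [Hensel.IsStrictHenselization (X.presheaf.stalk x) R]

omit [Hensel.IsStrictHenselization (X.presheaf.stalk x) R] in
theorem mem_cmpl_iff (y : PrimeSpectrum R) : (y : ↥(Spec (CommRingCat.of R))) ∈ cmpl φ x R ↔
    ∀ i : SGA1t.vanishingAt φ x, eqs φ x R i ∉ y.asIdeal := by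
  refine (mem_compl_iff (Y := Spec (CommRingCat.of R)) _ y).trans ?_
  constructor
  · intro h i
    have h1 := h i.1
    rw [basicOpen_specOf] at h1
    exact h1
  · intro h i
    rw [basicOpen_specOf]
    change fn x R (φ i) ∉ y.asIdeal
    by_cases hi : x ∈ X.basicOpen (φ i)
    · intro h3
      have h4 : fn x R (φ i) ∉ IsLocalRing.maximalIdeal R := by
        rw [fn_mem_maximalIdeal_iff]
        exact not_not.2 hi
      exact h4 (IsLocalRing.le_maximalIdeal y.2.ne_top h3)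
    · exact h ⟨i, hi⟩

include hD hx in
theorem exists_char_point (p : ℕ) (hp : (p : R) ∈ IsLocalRing.maximalIdeal R) :
    ∃ y : PrimeSpectrum R, (y : ↥(Spec (CommRingCat.of R))) ∈ cmpl φ x R ∧ (p : R) ∈ y.asIdeal := by
  have := Groth.Agent.Pi1C.StrictHensConn.weaklyEtale_specOf X x R
  obtain ⟨V, hV, hxV, d, e, α, he, hwe, hα, -⟩ := Groth.Agent.Pi1.H394.Chart.exists_chart f φ hD x hx R
    (Hens2.specOf X x R) (Groth.Agent.Pi1C.StrictHensConn.specOf_closedPoint X x R)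
  have hflat : α.Flat := by
    let _ := α.toAlgebra
    exact hwe.flat
  obtain ⟨y, hy1, hy2⟩ := CharPt.exists_prime α hflat (p : Γ(S, V)) (by simpa using hp)
  refine ⟨y, ?_, by simpa using hy1⟩
  rw [mem_cmpl_iff]
  intro i
  have h1 := hα i
  have h2 : eqs φ x R i = α (MvPolynomial.X (e i)) := by
    rw [h1]
    exact (Groth.Agent.Pi1.H394.SNCConn.sec_specOf x R (φ i.1)).symm
  rw [h2]
  exact hy2 _

include hD hx in
theorem connected (n : SGA1t.vanishingAt φ x → ℕ) (hn : ∀ i, 1 ≤ n i) :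
    ConnectedSpace ↥(↑(str R (eqs φ x R) n ⁻¹ᵁ cmpl φ x R) : Scheme.{u}) :=
  Groth.Agent.Pi1.H394.SNCConn.connectedSpace_strictHenselization f φ hD x hx R n hn

include hD hx in
theorem main (V₁ : FEt.Cat (cmpl φ x R : Scheme.{u}))
    (n : SGA1t.vanishingAt φ x → ℕ) (hn : ∀ i, 1 ≤ n i)
    (h : PtSplit V₁.hom (str R (eqs φ x R) n ∣_ cmpl φ x R)) :
    ∃ n : SGA1t.vanishingAt φ x → ℕ, (∀ i, 1 ≤ n i) ∧ (∀ i, IsUnit ((n i : ℕ) : X.residueField x)) ∧
      ∃ W : FEt.Cat (Spec (CommRingCat.of (SGA1t.kummer R (eqs φ x R) n))),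
        Nonempty ((FEt.restrict (str R (eqs φ x R) n ⁻¹ᵁ cmpl φ x R).ι).obj W ≅
          (FEt.restrict (str R (eqs φ x R) n ∣_ cmpl φ x R)).obj V₁) := by
  have hF : IsFinite V₁.hom := V₁.prop.1
  have hE : Etale V₁.hom := V₁.prop.2
  obtain ⟨m, hm, hmu, hs⟩ := Expo.main (eqs φ x R) (cmpl φ x R)
    (fun p _ hpm => exists_char_point f φ hD x hx R p hpm) (fun n hn => connected f φ hD x hx R n hn)
    V₁.hom n hn h
  have := connected f φ hD x hx R m hm
  exact ⟨m, hm, fun i => isUnit_natCast_residueField x R (m i) (hmu i),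
    SplitExt.exists_extends V₁ (str R (eqs φ x R) m ∣_ cmpl φ x R) _ hs⟩

/-- If `V₁` extends over the Kummer algebra with exponents `n` (arbitrary `≥ 1`) then it splits there. -/
theorem ptSplit_of_extends (V₁ : FEt.Cat (cmpl φ x R : Scheme.{u})) (n : SGA1t.vanishingAt φ x → ℕ)
    (hn : ∀ i, 1 ≤ n i) (W : FEt.Cat (Spec (CommRingCat.of (SGA1t.kummer R (eqs φ x R) n))))
    (e : (FEt.restrict (str R (eqs φ x R) n ⁻¹ᵁ cmpl φ x R).ι).obj W ≅
      (FEt.restrict (str R (eqs φ x R) n ∣_ cmpl φ x R)).obj V₁) :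
    PtSplit V₁.hom (str R (eqs φ x R) n ∣_ cmpl φ x R) := by
  have : HenselianLocalRing R := Hensel.IsStrictHenselization.henselian (X.presheaf.stalk x)
  have : IsSepClosed (IsLocalRing.ResidueField R) :=
    (Hensel.IsStrictHenselization.isSepClosure (R := X.presheaf.stalk x) (S := R)).1
  have : HenselianLocalRing (SGA1t.kummer R (eqs φ x R) n) :=
    KumSH.henselian (eqs φ x R) n (eqs_mem φ x R) hn
  have : IsSepClosed (IsLocalRing.ResidueField (SGA1t.kummer R (eqs φ x R) n)) :=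
    KumSH.isSepClosed_residueField (eqs φ x R) n (eqs_mem φ x R) hn
  exact SHSplit.ptSplit_of_extends (B := SGA1t.kummer R (eqs φ x R) n)
    (str R (eqs φ x R) n ⁻¹ᵁ cmpl φ x R).ι (str R (eqs φ x R) n ∣_ cmpl φ x R) V₁ W e

/-- What remains to be shown for the relative Abhyankar lemma: some Kummer cover (with arbitrary exponents
`≥ 1`) splits `V₁`. -/
def SplitKum : Prop := ∀ {X S : Scheme.{u}} (f : X ⟶ S) {r : ℕ} (φ : Fin r → Γ(X, ⊤))
    (_ : SGA1t.IsRelSNC f φ) (x : X) (_ : Nonempty (SGA1t.vanishingAt φ x))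
    (R : Type u) [CommRing R] [IsLocalRing R] [Algebra (X.presheaf.stalk x) R]
    [IsLocalHom (algebraMap (X.presheaf.stalk x) R)] [Hensel.IsStrictHenselization (X.presheaf.stalk x) R]
    (V₁ : FEt.Cat (SGA1t.compl (fun i => (Hens2.specOf X x R).appTop (φ i)) : Scheme.{u}))
    (_ : SGA1t.IsRelTameOver (Hens2.specOf X x R ≫ f) (fun i => (Hens2.specOf X x R).appTop (φ i)) V₁
      {s : S | ∀ s' : S, s' ⤳ s → s' = s}),
    ∃ n : SGA1t.vanishingAt φ x → ℕ, (∀ i, 1 ≤ n i) ∧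
      PtSplit V₁.hom (str R (eqs φ x R) n ∣_ cmpl φ x R)

theorem abh_of (h : SplitKum.{u}) : Abh.{u} := by
  intro X S f r φ hD x hx R _ _ _ _ _ V₁ ht
  obtain ⟨n, hn, hs⟩ := h f φ hD x hx R V₁ ht
  exact main f φ hD x hx R V₁ n hn hs

end Groth.Agent.Pi1.H415.FinalC
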