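import Groth.Agent.Pi1.H415.Glue

/-!
# S3693 from S3689 (`Abh`) and S3692 (`KumGal`)
-/

set_option autoImplicit false
open CategoryTheory CategoryTheory.Limits AlgebraicGeometry
universe u

namespace Groth.Agent.Pi1.H415.S3693_of

open Stmts SplitBC Groth.Agent.Pi1A.ClopenCrit

/-- Sections of a cover split by a geometrically connected cover `K`. -/
theorem bijective_secPull {U U' K : Scheme.{u}} (k : K ⟶ U) (g : U' ⟶ U) [IsFinite k] [Etale k] [Surjective k]
    [ConnectedSpace K] [ConnectedSpace ↥(pullback k g)] (V : FEt.Cat U) (hV : PtSplit V.hom k) :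
    Function.Bijective (SGA1t.secPull g V) := by
  have h0 : PtSplit (𝟙 U) k := by
    intro Ω _ t κ h
    rw [Category.comp_id] at h
    exact ⟨k, Category.comp_id _, h.symm⟩
  let l : U' ⟶ pullback (𝟙 U) g := pullback.lift g (𝟙 _) (by simp)
  have hl1 : l ≫ pullback.fst (𝟙 U) g = g := pullback.lift_fst _ _ _
  have hl2 : l ≫ pullback.snd (𝟙 U) g = 𝟙 _ := pullback.lift_snd _ _ _
  have hfst : pullback.fst (𝟙 U) g = pullback.snd (𝟙 U) g ≫ g := by
    rw [← pullback.condition, Category.comp_id]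
  constructor
  · intro s₁ s₂ h12
    apply Subtype.ext
    have h2 : g ≫ s₁.1 = g ≫ s₂.1 := by
      have h3 := congrArg (fun t : SGA1t.Sec ((FEt.restrict g).obj V) => t.1 ≫ pullback.fst V.hom g) h12
      have h4 : ∀ s : SGA1t.Sec V, (SGA1t.secPull g V s).1 ≫ pullback.fst V.hom g = g ≫ s.1 :=
        fun s => pullback.lift_fst _ _ _
      exact (h4 s₁).symm.trans (h3.trans (h4 s₂))
    refine eq_of_isClopen g (𝟙 U) V.hom (eq_empty_of_preimage (𝟙 U) k g h0) s₁.1 s₂.1 s₁.2 s₂.2 ?_
    rw [hfst, Category.assoc, Category.assoc, h2]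
  · intro σ
    have hσ : σ.1 ≫ pullback.snd V.hom g = 𝟙 U' := σ.2
    obtain ⟨a, ha1, ha2⟩ := exists_of_isClopen g (𝟙 U) V.hom (eq_empty_of_preimage (𝟙 U) k g h0)
      (exists_isClopen (pullback.fst (𝟙 U) V.hom ≫ 𝟙 U) k g (h0.prod hV))
      (pullback.snd (𝟙 U) g ≫ σ.1) (by
        refine (Category.assoc _ _ _).trans ?_
        exact (congrArg (pullback.snd (𝟙 U) g ≫ ·) hσ).trans (Category.comp_id _))
    refine ⟨⟨a, ha1⟩, ?_⟩
    apply Subtype.ext
    apply pullback.hom_ext
    · refine (pullback.lift_fst _ _ _).trans ?_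
      have h5 := congrArg (l ≫ ·) ha2
      simp only [← Category.assoc] at h5
      rw [hl1, hl2, Category.id_comp] at h5
      exact h5
    · refine (pullback.lift_snd _ _ _).trans ?_
      exact hσ.symm

theorem resLE_self {X Y : Scheme.{u}} (m : X ⟶ Y) (U : Y.Opens) : m.resLE U (m ⁻¹ᵁ U) le_rfl = m ∣_ U :=
  Scheme.Hom.resLE_eq_morphismRestrict m

theorem bijective_of_eq {X Y K : Scheme.{u}} (m : X ⟶ Y) (U : Y.Opens) (U' : X.Opens) (hle : U' ≤ m ⁻¹ᵁ U)
    (heq : U' = m ⁻¹ᵁ U) (k : K ⟶ U) [IsFinite k] [Etale k] [Surjective k]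
    [ConnectedSpace K] (hc : ConnectedSpace ↥(pullback k (m.resLE U U' hle))) (V : FEt.Cat (U : Scheme.{u}))
    (hV : PtSplit V.hom k) :
    Function.Bijective (SGA1t.secPull (m ∣_ U) V) := by
  subst heq
  have h1 := resLE_self m U
  rw [h1] at hc
  exact bijective_secPull k (m ∣_ U) V hV

theorem main (hA : Abh.{u}) (hK : KumGal.{u}) {X S S' : Scheme.{u}} (f : X ⟶ S) (h : S' ⟶ S) {r : ℕ} (φ : Fin r → Γ(X, ⊤))
    (hD : SGA1t.IsRelSNC f φ) (x' : ↥(pullback f h))
    (R : Type u) [CommRing R] [IsLocalRing R] [Algebra (X.presheaf.stalk ((pullback.fst f h).base x')) R]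
    [IsLocalHom (algebraMap (X.presheaf.stalk ((pullback.fst f h).base x')) R)]
    [Hensel.IsStrictHenselization (X.presheaf.stalk ((pullback.fst f h).base x')) R]
    (R' : Type u) [CommRing R'] [IsLocalRing R'] [Algebra ((pullback f h).presheaf.stalk x') R']
    [IsLocalHom (algebraMap ((pullback f h).presheaf.stalk x') R')]
    [Hensel.IsStrictHenselization ((pullback f h).presheaf.stalk x') R']
    [Algebra R R'] (hRR' : (algebraMap R R').comp (algebraMap (X.presheaf.stalk ((pullback.fst f h).base x')) R) =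
      (algebraMap ((pullback f h).presheaf.stalk x') R').comp ((pullback.fst f h).stalkMap x').hom)
    (hm : Spec.map (CommRingCat.ofHom (algebraMap R R')) ≫ Hens2.specOf X ((pullback.fst f h).base x') R =
      Hens2.specOf (pullback f h) x' R' ≫ pullback.fst f h) :
    letI m : Spec (CommRingCat.of R') ⟶ Spec (CommRingCat.of R) := Spec.map (CommRingCat.ofHom (algebraMap R R'))
    letI Ub := SGA1t.compl (fun i => (Hens2.specOf X ((pullback.fst f h).base x') R).appTop (φ i))
    ∀ (V : FEt.Cat (Ub : Scheme.{u})),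
      SGA1t.IsRelTame (Hens2.specOf X ((pullback.fst f h).base x') R ≫ f)
        (fun i => (Hens2.specOf X ((pullback.fst f h).base x') R).appTop (φ i)) V →
      Function.Bijective (SGA1t.secPull (m ∣_ Ub) V) := by
  intro V hV
  have heq : Glue.cmpl (Glue.φ' f h φ) x' R' = Spec.map (CommRingCat.ofHom (algebraMap R R')) ⁻¹ᵁ
      Glue.cmpl φ ((pullback.fst f h).base x') R := by
    have h1 := Groth.Agent.Pi1.H403.RelSNCBase.preimage_compl (Spec.map (CommRingCat.ofHom (algebraMap R R')))
      (fun i => (Hens2.specOf X ((pullback.fst f h).base x') R).appTop (φ i))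
    refine Eq.trans ?_ h1.symm
    have h2 : (fun i => (Hens2.specOf (pullback f h) x' R').appTop (Glue.φ' f h φ i)) =
        fun i => (Spec.map (CommRingCat.ofHom (algebraMap R R'))).appTop
          ((Hens2.specOf X ((pullback.fst f h).base x') R).appTop (φ i)) := by
      funext i
      have h3 := congrArg (fun t => Scheme.Hom.appTop t (φ i)) hm
      simp only [Scheme.Hom.comp_appTop, CommRingCat.comp_apply] at h3
      exact h3.symm
    exact congrArg SGA1t.compl h2
  obtain ⟨K, k, h1, h2, h3, h4, h5, h6, h7⟩ := Glue.exists_cover f h φ hD x' R R' hRR' hA hK heq.le V V hV hV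
  exact bijective_of_eq _ _ _ heq.le heq k h5 V h6

end Groth.Agent.Pi1.H415.S3693_of
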