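import Groth.Agent.Pi1.H415.Glue

/-!
# S3715 and S3693 from S3689 (`Abh`) and S3692 (`KumGal`)
-/

set_option autoImplicit false
open CategoryTheory CategoryTheory.Limits AlgebraicGeometry
universe u

namespace Groth.Agent.Pi1.H415.S3715_of

open Stmts SplitBC Groth.Agent.Pi1A.ClopenCrit

theorem main (hA : Abh.{u}) (hK : KumGal.{u}) {X S S' : Scheme.{u}} (f : X ⟶ S) (h : S' ⟶ S) {r : ℕ} (φ : Fin r → Γ(X, ⊤))
    (hD : SGA1t.IsRelSNC f φ) (x' : ↥(pullback f h))
    (R : Type u) [CommRing R] [IsLocalRing R] [Algebra (X.presheaf.stalk ((pullback.fst f h).base x')) R]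
    [IsLocalHom (algebraMap (X.presheaf.stalk ((pullback.fst f h).base x')) R)]
    [Hensel.IsStrictHenselization (X.presheaf.stalk ((pullback.fst f h).base x')) R]
    (R' : Type u) [CommRing R'] [IsLocalRing R'] [Algebra ((pullback f h).presheaf.stalk x') R']
    [IsLocalHom (algebraMap ((pullback f h).presheaf.stalk x') R')]
    [Hensel.IsStrictHenselization ((pullback f h).presheaf.stalk x') R']
    [Algebra R R'] (hRR' : (algebraMap R R').comp (algebraMap (X.presheaf.stalk ((pullback.fst f h).base x')) R) =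
      (algebraMap ((pullback f h).presheaf.stalk x') R').comp ((pullback.fst f h).stalkMap x').hom)
    (hm : Spec.map (CommRingCat.ofHom (algebraMap R R')) ≫ Hens2.specOf X ((pullback.fst f h).base x') R =
      Hens2.specOf (pullback f h) x' R' ≫ pullback.fst f h)
    (C : Type) [Group C] [Finite C] :
    letI m : Spec (CommRingCat.of R') ⟶ Spec (CommRingCat.of R) := Spec.map (CommRingCat.ofHom (algebraMap R R'))
    letI φb : Fin r → Γ(Spec (CommRingCat.of R), ⊤) := fun i => (Hens2.specOf X ((pullback.fst f h).base x') R).appTop (φ i)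
    letI φb' : Fin r → Γ(Spec (CommRingCat.of R'), ⊤) := fun i =>
      (Hens2.specOf (pullback f h) x' R').appTop ((pullback.fst f h).appTop (φ i))
    ∀ (hle : SGA1t.compl φb' ≤ m ⁻¹ᵁ SGA1t.compl φb)
      (P Q : FEt.Cat (SGA1t.compl φb : Scheme.{u})) (ρ : C →* Aut P) (τ : C →* Aut Q),
      SGA1t.IsPrincipal C P ρ → SGA1t.IsPrincipal C Q τ →
      SGA1t.IsRelTame (Hens2.specOf X ((pullback.fst f h).base x') R ≫ f) φb P →
      SGA1t.IsRelTame (Hens2.specOf X ((pullback.fst f h).base x') R ≫ f) φb Q →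
      (∃ e' : (FEt.restrict (m.resLE (SGA1t.compl φb) (SGA1t.compl φb') hle)).obj P ≅
          (FEt.restrict (m.resLE (SGA1t.compl φb) (SGA1t.compl φb') hle)).obj Q,
        ∀ g : C, (FEt.restrict (m.resLE (SGA1t.compl φb) (SGA1t.compl φb') hle)).map (ρ g).hom ≫ e'.hom =
          e'.hom ≫ (FEt.restrict (m.resLE (SGA1t.compl φb) (SGA1t.compl φb') hle)).map (τ g).hom) →
      ∃ e : P ≅ Q, ∀ g : C, (ρ g).hom ≫ e.hom = e.hom ≫ (τ g).hom := by
  intro hle P Q ρ τ _ _ hP hQ ⟨e', he'⟩
  obtain ⟨K, k, h1, h2, h3, h4, h5, h6, h7⟩ := Glue.exists_cover f h φ hD x' R R' hRR' hA hK hle P Q hP hQ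
  exact exists_iso_equivariant k _ P Q h6 h7 (fun g => (ρ g).hom) (fun g => (τ g).hom) e' he'

end Groth.Agent.Pi1.H415.S3715_of
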