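import Groth.Prelude.Def_FEt
import Groth.Agent.Pi1A.ClopenCrit

/-!
# Covers split pointwise by a connected cover, and base change

`PtSplit v k` (for `v : V ⟶ U`, `k : K ⟶ U`): every field valued point of `V ×_U K` lies on a
`U`-morphism `K ⟶ V`.  If `K` and `K ×_U U'` are connected (`K → U` surjective finite etale), then
for covers `P`, `Q` of `U` which are split by `K`, `Hom_U(P, Q) → Hom_{U'}(P', Q')` is bijective.
-/

set_option autoImplicit false

universe u

open CategoryTheory CategoryTheory.Limits AlgebraicGeometry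

namespace Groth.Agent.Pi1.H415.SplitBC

open Groth.Agent.Pi1A.ClopenCrit

/-- Every field valued point of `V ×_U K` lies on a `U`-morphism `K ⟶ V`. -/
def PtSplit {U V K : Scheme.{u}} (v : V ⟶ U) (k : K ⟶ U) : Prop :=
  ∀ (Ω : Type u) [Field Ω] (t : Spec (CommRingCat.of Ω) ⟶ V) (κ : Spec (CommRingCat.of Ω) ⟶ K),
    t ≫ v = κ ≫ k → ∃ s : K ⟶ V, s ≫ v = k ∧ κ ≫ s = t

theorem PtSplit.prod {U V W K : Scheme.{u}} {v : V ⟶ U} {w : W ⟶ U} {k : K ⟶ U}
    (hv : PtSplit v k) (hw : PtSplit w k) : PtSplit (pullback.fst v w ≫ v) k := by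
  intro Ω _ t κ h
  obtain ⟨s₁, h₁, h₁'⟩ := hv Ω (t ≫ pullback.fst v w) κ (by simpa using h)
  obtain ⟨s₂, h₂, h₂'⟩ := hw Ω (t ≫ pullback.snd v w) κ (by
    rw [Category.assoc, ← pullback.condition]; simpa using h)
  refine ⟨pullback.lift s₁ s₂ (by rw [h₁, h₂]), ?_, ?_⟩
  · rw [pullback.lift_fst_assoc, h₁]
  · apply pullback.hom_ext
    · rw [Category.assoc, pullback.lift_fst, h₁']
    · rw [Category.assoc, pullback.lift_snd, h₂']

theorem PtSplit.comp {U V K L : Scheme.{u}} {v : V ⟶ U} {k : K ⟶ U} (hv : PtSplit v k)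
    (l : L ⟶ K) : PtSplit v (l ≫ k) := by
  intro Ω _ t κ h
  obtain ⟨s, h₁, h₁'⟩ := hv Ω t (κ ≫ l) (by rw [h, Category.assoc])
  exact ⟨l ≫ s, by rw [Category.assoc, h₁], by rw [← Category.assoc, h₁']⟩

/-- Invariance under isomorphisms of the cover. -/
theorem PtSplit.of_iso {U V V' K : Scheme.{u}} {v : V ⟶ U} {v' : V' ⟶ U} {k : K ⟶ U}
    (hv : PtSplit v k) (e : V ≅ V') (he : e.hom ≫ v' = v) : PtSplit v' k := by
  intro Ω _ t κ h
  obtain ⟨s, h₁, h₁'⟩ := hv Ω (t ≫ e.inv) κ (by rw [← he]; simpa using h)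
  refine ⟨s ≫ e.hom, by rw [Category.assoc, he, h₁], by rw [← Category.assoc, h₁']; simp⟩

section

variable {U T K : Scheme.{u}} (v : T ⟶ U) (k : K ⟶ U)

theorem exists_mem_range (hs : PtSplit v k) [Surjective k] (t : T) :
    ∃ s : K ⟶ T, s ≫ v = k ∧ t ∈ Set.range s := by
  obtain ⟨y, hy⟩ := k.surjective (v t)
  obtain ⟨z, hz1, hz2⟩ := Scheme.Pullback.exists_preimage_pullback (f := v) (g := k) t y hy.symm
  let Ω := (pullback v k).residueField z
  obtain ⟨s, h1, h2⟩ := hs Ω ((pullback v k).fromSpecResidueField z ≫ pullback.fst v k)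
    ((pullback v k).fromSpecResidueField z ≫ pullback.snd v k) (by
      rw [Category.assoc, pullback.condition, Category.assoc])
  refine ⟨s, h1, y, ?_⟩
  let p : Spec (CommRingCat.of Ω) := IsLocalRing.closedPoint Ω
  have hp : (pullback v k).fromSpecResidueField z p = z :=
    Scheme.fromSpecResidueField_apply z p
  have h3 := congrArg (fun a => a p) (congrArg (fun (a : Spec (CommRingCat.of Ω) ⟶ T) => (a : _ → _)) h2)
  simp only [Scheme.Hom.comp_apply] at h3
  erw [hp] at h3
  rw [hz1] at h3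
  rw [← hz2]
  exact h3

variable [IsFinite v] [Etale v] [IsFinite k] [Etale k]

theorem isClopen_range (s : K ⟶ T) (hs : s ≫ v = k) : IsClopen (Set.range s) := by
  have h1 : IsFinite (s ≫ v) := by rw [hs]; infer_instance
  have h2 : Etale (s ≫ v) := by rw [hs]; infer_instance
  have h3 : IsFinite s := IsFinite.of_comp s v
  have h4 : Etale s := Etale.of_comp s v
  exact ⟨s.isClosedMap.isClosed_range, s.isOpenMap.isOpen_range⟩

end

section BaseChange

variable {U U' T K : Scheme.{u}} (v : T ⟶ U) (k : K ⟶ U) (g : U' ⟶ U)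

/-- The base change of `s : K ⟶ T` to `U'`. -/
noncomputable def bcMap (s : K ⟶ T) (hs : s ≫ v = k) : pullback k g ⟶ pullback v g :=
  pullback.lift (pullback.fst k g ≫ s) (pullback.snd k g)
    (by rw [Category.assoc, hs, pullback.condition])

theorem range_bcMap (s : K ⟶ T) (hs : s ≫ v = k) :
    Set.range (bcMap v k g s hs) = pullback.fst v g ⁻¹' (Set.range s) := by
  have hpb : IsPullback (pullback.fst k g) (bcMap v k g s hs) s (pullback.fst v g) := by
    have h1 : IsPullback (pullback.fst k g) (pullback.snd k g) (s ≫ v) g := by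
      rw [hs]; exact IsPullback.of_hasPullback k g
    have h2 := IsPullback.of_hasPullback v g
    refine IsPullback.of_bot (v₂₁ := pullback.snd v g) (v₂₂ := v) (h₃₁ := g) ?_ ?_ h2
    · have h3 : bcMap v k g s hs ≫ pullback.snd v g = pullback.snd k g := pullback.lift_snd _ _ _
      rw [h3]
      exact h1
    · exact (pullback.lift_fst _ _ _).symm
  ext z
  constructor
  · rintro ⟨y, rfl⟩
    refine ⟨pullback.fst k g y, ?_⟩
    rw [← Scheme.Hom.comp_apply, ← Scheme.Hom.comp_apply, hpb.w]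
  · rintro ⟨y, hy⟩
    obtain ⟨a, -, ha⟩ := Scheme.Pullback.exists_preimage_pullback (f := s) (g := pullback.fst v g) y z hy
    refine ⟨hpb.isoPullback.inv a, ?_⟩
    rw [← Scheme.Hom.comp_apply, hpb.isoPullback_inv_snd, ha]

variable [IsFinite v] [Etale v] [IsFinite k] [Etale k] [Surjective k]

/-- Clopen subsets with empty preimage are empty. -/
theorem eq_empty_of_preimage (hs : PtSplit v k) [ConnectedSpace K] [ConnectedSpace ↥(pullback k g)]
    (A : Set T) (hA : IsClopen A) (h0 : pullback.fst v g ⁻¹' A = ∅) : A = ∅ := by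
  by_contra hne
  obtain ⟨t, ht⟩ := Set.nonempty_iff_ne_empty.mpr hne
  obtain ⟨s, h1, y, hy⟩ := exists_mem_range v k hs t
  have h2 : s ⁻¹' A = Set.univ := by
    have h3 : IsClopen (s ⁻¹' A) := hA.preimage s.continuous
    rcases isClopen_iff.mp h3 with h4 | h4
    · exfalso
      have : y ∈ s ⁻¹' A := by rw [Set.mem_preimage, hy]; exact ht
      rw [h4] at this
      exact this
    · exact h4
  obtain ⟨z⟩ : Nonempty ↥(pullback k g) := inferInstance
  have h5 : bcMap v k g s h1 z ∈ pullback.fst v g ⁻¹' A := by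
    have h6 : bcMap v k g s h1 z ∈ pullback.fst v g ⁻¹' (Set.range s) := by
      rw [← range_bcMap v k g s h1]; exact ⟨z, rfl⟩
    obtain ⟨w, hw⟩ := h6
    rw [Set.mem_preimage, ← hw]
    have : w ∈ s ⁻¹' A := by rw [h2]; trivial
    exact this
  rw [h0] at h5
  exact h5

/-- Clopen subsets of the base change come from clopen subsets. -/
theorem exists_isClopen (hs : PtSplit v k) [ConnectedSpace K] [ConnectedSpace ↥(pullback k g)]
    (B : Set ↥(pullback v g)) (hB : IsClopen B) :
    ∃ A : Set T, IsClopen A ∧ pullback.fst v g ⁻¹' A = B := by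
  have hdich : ∀ (s : K ⟶ T) (h : s ≫ v = k), pullback.fst v g ⁻¹' (Set.range s) ⊆ B ∨
      pullback.fst v g ⁻¹' (Set.range s) ⊆ Bᶜ := by
    intro s h
    rw [← range_bcMap v k g s h]
    have h3 : IsClopen ((bcMap v k g s h) ⁻¹' B) := hB.preimage (bcMap v k g s h).continuous
    rcases isClopen_iff.mp h3 with h4 | h4
    · right
      rintro _ ⟨z, rfl⟩ hz
      have : z ∈ (bcMap v k g s h) ⁻¹' B := hz
      rw [h4] at this
      exact this
    · left
      rintro _ ⟨z, rfl⟩
      have : z ∈ (bcMap v k g s h) ⁻¹' B := by rw [h4]; trivial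
      exact this
  have hne : ∀ (s : K ⟶ T) (h : s ≫ v = k), (pullback.fst v g ⁻¹' (Set.range s)).Nonempty := by
    intro s h
    rw [← range_bcMap v k g s h]
    exact Set.range_nonempty _
  let A : Set T := ⋃ (s : {s : K ⟶ T // s ≫ v = k ∧ pullback.fst v g ⁻¹' (Set.range s) ⊆ B}),
    Set.range s.1
  let A' : Set T := ⋃ (s : {s : K ⟶ T // s ≫ v = k ∧ pullback.fst v g ⁻¹' (Set.range s) ⊆ Bᶜ}),
    Set.range s.1
  have hAo : IsOpen A := isOpen_iUnion fun s => (isClopen_range v k s.1 s.2.1).isOpen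
  have hAo' : IsOpen A' := isOpen_iUnion fun s => (isClopen_range v k s.1 s.2.1).isOpen
  have hcompl : Aᶜ = A' := by
    ext t
    constructor
    · intro ht
      obtain ⟨s, h1, h2⟩ := exists_mem_range v k hs t
      rcases hdich s h1 with h3 | h3
      · exact absurd (Set.mem_iUnion.mpr ⟨⟨s, h1, h3⟩, h2⟩) ht
      · exact Set.mem_iUnion.mpr ⟨⟨s, h1, h3⟩, h2⟩
    · intro ht ht'
      obtain ⟨⟨s, h1, h2⟩, h3⟩ := Set.mem_iUnion.mp ht
      obtain ⟨⟨s', h1', h2'⟩, h3'⟩ := Set.mem_iUnion.mp ht'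
      have hc := isClopen_range v k s h1
      have hc' := isClopen_range v k s' h1'
      have hsub : ∀ (a b : K ⟶ T), IsClopen (Set.range b) → t ∈ Set.range a → t ∈ Set.range b →
          Set.range a ⊆ Set.range b := by
        rintro a b hb ⟨y, hy⟩ htb
        have h4 : IsClopen (a ⁻¹' (Set.range b)) := hb.preimage a.continuous
        rcases isClopen_iff.mp h4 with h5 | h5
        · exfalso
          have : y ∈ a ⁻¹' (Set.range b) := by rw [Set.mem_preimage, hy]; exact htb
          rw [h5] at this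
          exact this
        · rintro _ ⟨z, rfl⟩
          have : z ∈ a ⁻¹' (Set.range b) := by rw [h5]; trivial
          exact this
      have heq : Set.range s = Set.range s' :=
        Set.Subset.antisymm (hsub s s' hc' h3 h3') (hsub s' s hc h3' h3)
      obtain ⟨z, hz⟩ := hne s h1
      exact h2 hz (h2' (by rw [← heq]; exact hz))
  refine ⟨A, ⟨⟨by rw [hcompl]; exact hAo'⟩, hAo⟩, ?_⟩
  ext z
  constructor
  · intro hz
    obtain ⟨⟨s, h1, h2⟩, h3⟩ := Set.mem_iUnion.mp hz
    exact h2 h3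
  · intro hz
    obtain ⟨s, h1, h2⟩ := exists_mem_range v k hs (pullback.fst v g z)
    rcases hdich s h1 with h3 | h3
    · exact Set.mem_iUnion.mpr ⟨⟨s, h1, h3⟩, h2⟩
    · exact absurd hz (h3 h2)

end BaseChange

section Hom

variable {U U' K : Scheme.{u}} (k : K ⟶ U) (g : U' ⟶ U) [IsFinite k] [Etale k] [Surjective k]
  [ConnectedSpace K] [ConnectedSpace ↥(pullback k g)] (P Q : FEt.Cat U)

/-- **Faithfulness** of base change on covers split by `K`. -/
theorem map_injective (hP : PtSplit P.hom k) (a b : P ⟶ Q)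
    (hab : (FEt.restrict g).map a = (FEt.restrict g).map b) : a = b := by
  apply MorphismProperty.Over.Hom.ext
  refine eq_of_isClopen g P.hom Q.hom (eq_empty_of_preimage P.hom k g hP) a.left b.left (w a) (w b) ?_
  have h := congrArg (fun t => t.left ≫ pullback.fst Q.hom g) hab
  have ha : ((FEt.restrict g).map a).left ≫ pullback.fst Q.hom g =
    pullback.fst P.hom g ≫ a.left := pullback.lift_fst _ _ _
  have hb : ((FEt.restrict g).map b).left ≫ pullback.fst Q.hom g =
    pullback.fst P.hom g ≫ b.left := pullback.lift_fst _ _ _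
  exact ha.symm.trans (h.trans hb)

/-- **Fullness** of base change on covers split by `K`. -/
theorem map_surjective (hP : PtSplit P.hom k) (hQ : PtSplit Q.hom k)
    (φ : (FEt.restrict g).obj P ⟶ (FEt.restrict g).obj Q) :
    ∃ a : P ⟶ Q, (FEt.restrict g).map a = φ := by
  obtain ⟨a, ha1, ha2⟩ := exists_of_isClopen g P.hom Q.hom (eq_empty_of_preimage P.hom k g hP)
    (exists_isClopen (pullback.fst P.hom Q.hom ≫ P.hom) k g (hP.prod hQ)) φ.left (w φ)
  refine ⟨MorphismProperty.Over.homMk a ha1, ?_⟩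
  apply MorphismProperty.Over.Hom.ext
  apply pullback.hom_ext
  · refine Eq.trans (pullback.lift_fst _ _ _) ?_
    exact ha2
  · refine Eq.trans (pullback.lift_snd _ _ _) ?_
    exact (w φ).symm

/-- Isomorphisms between the base changes come from isomorphisms. -/
theorem exists_iso (hP : PtSplit P.hom k) (hQ : PtSplit Q.hom k)
    (e' : (FEt.restrict g).obj P ≅ (FEt.restrict g).obj Q) :
    ∃ e : P ≅ Q, (FEt.restrict g).map e.hom = e'.hom := by
  obtain ⟨a, ha⟩ := map_surjective k g P Q hP hQ e'.hom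
  obtain ⟨b, hb⟩ := map_surjective k g Q P hQ hP e'.inv
  refine ⟨⟨a, b, ?_, ?_⟩, ha⟩
  · apply map_injective k g P P hP
    rw [Functor.map_comp, ha, hb, e'.hom_inv_id, (FEt.restrict g).map_id]
  · apply map_injective k g Q Q hQ
    rw [Functor.map_comp, ha, hb, e'.inv_hom_id, (FEt.restrict g).map_id]

/-- Equivariant version. -/
theorem exists_iso_equivariant {C : Type*} (hP : PtSplit P.hom k) (hQ : PtSplit Q.hom k)
    (ρ : C → (P ⟶ P)) (τ : C → (Q ⟶ Q))
    (e' : (FEt.restrict g).obj P ≅ (FEt.restrict g).obj Q)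
    (he' : ∀ c, (FEt.restrict g).map (ρ c) ≫ e'.hom = e'.hom ≫ (FEt.restrict g).map (τ c)) :
    ∃ e : P ≅ Q, ∀ c, ρ c ≫ e.hom = e.hom ≫ τ c := by
  obtain ⟨e, he⟩ := exists_iso k g P Q hP hQ e'
  refine ⟨e, fun c => ?_⟩
  apply map_injective k g P Q hP
  rw [Functor.map_comp, Functor.map_comp, he, he']

end Hom

end Groth.Agent.Pi1.H415.SplitBC
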